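import Mathlib
import Groth.Agent.LanSlice.Basic

set_option backward.isDefEq.respectTransparency false
set_option backward.isDefEq.respectTransparency.types false
set_option linter.style.haveILetI false
set_option autoImplicit false

universe u

open CategoryTheory Category Limits Opposite

namespace Groth.Agent.LanInd

variable {C : Type u} [SmallCategory C] {C' : Type u} [SmallCategory C'] (u : C ⥤ C')

def toRep (Y : C) : yoneda.obj Y ⟶ ((Functor.whiskeringLeft Cᵒᵖ C'ᵒᵖ (Type u)).obj u.op).obj (yoneda.obj (u.obj Y)) where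
  app X := TypeCat.ofHom fun f => u.map f
  naturality X X' g := by
    ext f
    exact u.map_comp g.unop f

noncomputable def ψ (Y : C) : u.op.lan.obj (yoneda.obj Y) ⟶ yoneda.obj (u.obj Y) :=
  ((Functor.lanAdjunction u.op (Type u)).homEquiv _ _).symm (toRep u Y)

theorem ψ_η (Y X : C) (f : X ⟶ Y) :
    (ψ u Y).app _ (LanSlice.η u (yoneda.obj Y) X f) = u.map f := by
  have h := ((Functor.lanAdjunction u.op (Type u)).homEquiv _ _).apply_symm_apply (toRep u Y)
  rw [Adjunction.homEquiv_unit] at h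
  exact congrArg (fun α : yoneda.obj Y ⟶ ((Functor.whiskeringLeft Cᵒᵖ C'ᵒᵖ (Type u)).obj u.op).obj
    (yoneda.obj (u.obj Y)) => α.app (op X) f) h

theorem η_nat (H : Cᵒᵖ ⥤ Type u) {W X : C} (h : X ⟶ W) (x : H.obj (op W)) :
    LanSlice.η u H X (H.map h.op x) = (u.op.lan.obj H).map (u.map h).op (LanSlice.η u H W x) :=
  NatTrans.naturality_apply ((Functor.lanAdjunction u.op (Type u)).unit.app H) h.op x

theorem η_comp {H K : Cᵒᵖ ⥤ Type u} (α : H ⟶ K) {X : C} (x : H.obj (op X)) :
    (u.op.lan.map α).app _ (LanSlice.η u H X x) = LanSlice.η u K X (α.app _ x) :=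
  (congrArg (fun β : H ⟶ _ => β.app (op X) x) ((Functor.lanAdjunction u.op (Type u)).unit.naturality α)).symm

theorem η_injective_rep [u.Faithful] (Y X : C) : Function.Injective (LanSlice.η u (yoneda.obj Y) X) := fun f g h =>
  u.map_injective (by rw [← ψ_η, ← ψ_η, h])

theorem η_surjective_rep [u.Full] (Y X : C) : Function.Surjective (LanSlice.η u (yoneda.obj Y) X) := by
  intro e
  obtain ⟨W, x, g, rfl⟩ := LanSlice.exists_rep u _ _ e
  obtain ⟨h, rfl⟩ := u.map_surjective g
  exact ⟨(yoneda.obj Y).map h.op x, η_nat u _ h x⟩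

variable {G : Cᵒᵖ ⥤ Type u} (P : IndObjectPresentation G) (X : C)

theorem η_ind_aux :
    (∀ z : G.obj (op X), ∃ (i : P.I) (f : X ⟶ P.F.obj i), (P.ι.app i).app _ f = z) ∧
    (∀ e : (u.op.lan.obj G).obj (op (u.obj X)), ∃ (i : P.I) (e' : (u.op.lan.obj (yoneda.obj (P.F.obj i))).obj (op (u.obj X))),
      (u.op.lan.map (P.ι.app i)).app _ e' = e) ∧
    (∀ (i j : P.I) (a : (u.op.lan.obj (yoneda.obj (P.F.obj i))).obj (op (u.obj X)))
      (b : (u.op.lan.obj (yoneda.obj (P.F.obj j))).obj (op (u.obj X))),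
      (u.op.lan.map (P.ι.app i)).app _ a = (u.op.lan.map (P.ι.app j)).app _ b →
      ∃ (k : P.I) (f : i ⟶ k) (g : j ⟶ k),
        (u.op.lan.map (yoneda.map (P.F.map f))).app _ a = (u.op.lan.map (yoneda.map (P.F.map g))).app _ b) := by
  have h1 := isColimitOfPreserves ((evaluation Cᵒᵖ (Type u)).obj (op X)) P.isColimit
  haveI : PreservesColimitsOfSize.{u, u} (u.op.lan : (Cᵒᵖ ⥤ Type u) ⥤ (C'ᵒᵖ ⥤ Type u)) :=
    (Functor.lanAdjunction u.op (Type u)).leftAdjoint_preservesColimits
  have h2 := isColimitOfPreserves (u.op.lan ⋙ (evaluation C'ᵒᵖ (Type u)).obj (op (u.obj X))) P.isColimit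
  refine ⟨fun z => Types.jointly_surjective_of_isColimit h1 z, fun e => Types.jointly_surjective_of_isColimit h2 e, fun i j a b h => ?_⟩
  exact (Types.FilteredColimit.isColimit_eq_iff _ h2).1 h

theorem η_injective_ind [u.Faithful] {G : Cᵒᵖ ⥤ Type u} (P : IndObjectPresentation G) (X : C) : Function.Injective (LanSlice.η u G X) := by
  obtain ⟨hs, -, heq⟩ := η_ind_aux u P X
  intro z w h
  obtain ⟨i, f, rfl⟩ := hs z
  obtain ⟨j, g, rfl⟩ := hs w
  obtain ⟨k, a, b, hk⟩ := heq i j _ _ ((η_comp u (P.ι.app i) f).trans (h.trans (η_comp u (P.ι.app j) g).symm))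
  have hk' := (η_comp u (yoneda.map (P.F.map a)) f).symm.trans (hk.trans (η_comp u (yoneda.map (P.F.map b)) g))
  have h' := congrArg ((P.ι.app k).app (op X)) (η_injective_rep u _ _ hk')
  have na := congrArg (fun α : yoneda.obj (P.F.obj i) ⟶ G => α.app (op X) f) (P.ι.naturality a)
  have nb := congrArg (fun α : yoneda.obj (P.F.obj j) ⟶ G => α.app (op X) g) (P.ι.naturality b)
  exact na.symm.trans (h'.trans nb)

theorem η_surjective_ind [u.Full] {G : Cᵒᵖ ⥤ Type u} (P : IndObjectPresentation G) (X : C) : Function.Surjective (LanSlice.η u G X) := by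
  obtain ⟨-, hs, -⟩ := η_ind_aux u P X
  intro e
  obtain ⟨i, e', rfl⟩ := hs e
  obtain ⟨f, rfl⟩ := η_surjective_rep u _ _ e'
  exact ⟨_, (η_comp u (P.ι.app i) f).symm⟩

theorem homEquiv_app {F G : Cᵒᵖ ⥤ Type u} (φ : F ⟶ G) :
    (Functor.lanAdjunction u.op (Type u)).homEquiv _ _ (u.op.lan.map φ) =
      φ ≫ (Functor.lanAdjunction u.op (Type u)).unit.app G := by
  rw [Adjunction.homEquiv_unit]
  exact ((Functor.lanAdjunction u.op (Type u)).unit.naturality φ).symm

theorem injective_map [u.Faithful] (F G : Cᵒᵖ ⥤ Type u) (hG : IsIndObject G) :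
    Function.Injective (fun φ : F ⟶ G => u.op.lan.map φ) := by
  intro φ φ' h
  have h' := congrArg ((Functor.lanAdjunction u.op (Type u)).homEquiv _ _) h
  simp only [homEquiv_app] at h'
  ext X x
  exact η_injective_ind u hG.presentation X.unop (congrArg (fun α : F ⟶ _ => α.app X x) h')

theorem bijective_map [u.Full] [u.Faithful] (F G : Cᵒᵖ ⥤ Type u) (hG : IsIndObject G) :
    Function.Bijective (fun φ : F ⟶ G => u.op.lan.map φ) := by
  haveI : IsIso ((Functor.lanAdjunction u.op (Type u)).unit.app G) := by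
    rw [NatTrans.isIso_iff_isIso_app]
    intro X
    rw [isIso_iff_bijective]
    exact ⟨η_injective_ind u hG.presentation X.unop, η_surjective_ind u hG.presentation X.unop⟩
  refine ⟨injective_map u F G hG, fun ψ => ?_⟩
  refine ⟨(Functor.lanAdjunction u.op (Type u)).homEquiv _ _ ψ ≫ inv ((Functor.lanAdjunction u.op (Type u)).unit.app G), ?_⟩
  apply ((Functor.lanAdjunction u.op (Type u)).homEquiv _ _).injective
  rw [homEquiv_app, Category.assoc, IsIso.inv_hom_id, Category.comp_id]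

theorem faithful_of (h : ∀ (F G : Cᵒᵖ ⥤ Type u), IsIndObject F → IsIndObject G →
      Function.Injective (fun φ : F ⟶ G => u.op.lan.map φ)) : u.Faithful := by
  refine ⟨fun {X Y} f g hfg => ?_⟩
  apply yoneda.map_injective
  refine h _ _ (isIndObject_yoneda X) (isIndObject_yoneda Y) ?_
  apply ((Functor.lanAdjunction u.op (Type u)).homEquiv _ _).injective
  simp only [homEquiv_app]
  apply yonedaEquiv.injective
  change LanSlice.η u (yoneda.obj Y) X (𝟙 X ≫ f) = LanSlice.η u (yoneda.obj Y) X (𝟙 X ≫ g)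
  rw [Category.id_comp, Category.id_comp]
  have hf := η_nat u (yoneda.obj Y) f (𝟙 Y)
  have hg := η_nat u (yoneda.obj Y) g (𝟙 Y)
  simp only [yoneda_obj_map, TypeCat.ofHom_apply, Quiver.Hom.unop_op] at hf hg
  refine ((congrArg _ (Category.comp_id f).symm).trans (hf.trans ?_)).trans (congrArg _ (Category.comp_id g))
  rw [hg, hfg]

theorem full_of (h : ∀ (F G : Cᵒᵖ ⥤ Type u), IsIndObject F → IsIndObject G →
      Function.Surjective (fun φ : F ⟶ G => u.op.lan.map φ)) : u.Full := by
  refine ⟨fun {X Y} g => ?_⟩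
  obtain ⟨φ, hφ⟩ := h _ _ (isIndObject_yoneda X) (isIndObject_yoneda Y)
    (((Functor.lanAdjunction u.op (Type u)).homEquiv _ _).symm (yonedaEquiv.symm
      ((u.op.lan.obj (yoneda.obj Y)).map g.op (LanSlice.η u (yoneda.obj Y) Y (𝟙 Y)))))
  have h' := congrArg (fun m => yonedaEquiv ((Functor.lanAdjunction u.op (Type u)).homEquiv _ _ m)) hφ
  simp only [homEquiv_app, Equiv.apply_symm_apply] at h'
  refine ⟨φ.app (op X) (𝟙 X), ?_⟩
  have h'' : LanSlice.η u (yoneda.obj Y) X (φ.app (op X) (𝟙 X)) = _ := h'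
  have := congrArg ((ψ u Y).app _) h''
  rw [ψ_η, NatTrans.naturality_apply, ψ_η] at this
  simpa using this

end Groth.Agent.LanInd
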