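import Mathlib
import Groth.Agent.LanInd.Basic

set_option backward.isDefEq.respectTransparency false
set_option backward.isDefEq.respectTransparency.types false
set_option linter.style.haveILetI false
set_option autoImplicit false

universe u

open CategoryTheory Category Limits Opposite

namespace Groth.Agent.LanInd

variable {C : Type u} [SmallCategory C] {C' : Type u} [SmallCategory C'] (u : C ⥤ C')

/-- A retract of a representable presheaf is an ind-object. -/
theorem isIndObject_of_retract {A : Cᵒᵖ ⥤ Type u} {X : C} (i : A ⟶ yoneda.obj X) (r : yoneda.obj X ⟶ A)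
    (h : i ≫ r = 𝟙 A) : IsIndObject A := by
  let T : CostructuredArrow yoneda A := CostructuredArrow.mk r
  let tT : ∀ Z : CostructuredArrow yoneda A, Z ⟶ T := fun Z =>
    CostructuredArrow.homMk (yoneda.preimage (Z.hom ≫ i)) (by
      rw [Functor.map_preimage]
      simp [T, h])
  haveI : Nonempty (CostructuredArrow yoneda A) := ⟨T⟩
  haveI : IsFilteredOrEmpty (CostructuredArrow yoneda A) :=
    ⟨fun a b => ⟨T, tT a, tT b, trivial⟩, fun {a b} f g => ⟨T, tT b, by
      refine CostructuredArrow.hom_ext _ _ (yoneda.map_injective ?_)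
      simp only [CostructuredArrow.comp_left, Functor.map_comp, tT, CostructuredArrow.homMk_left, Functor.map_preimage]
      rw [reassoc_of% (CostructuredArrow.w f), reassoc_of% (CostructuredArrow.w g)]⟩⟩
  haveI : IsFiltered (CostructuredArrow yoneda A) := ⟨⟩
  haveI : FinallySmall.{u} (CostructuredArrow yoneda A) :=
    finallySmall_of_small_weakly_terminal_set {T} fun Z => ⟨T, rfl, ⟨tT Z⟩⟩
  exact isIndObject_of_isFiltered_of_finallySmall A

instance isIso_ψ (Y : C) : IsIso (ψ u Y) := by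
  apply isIso_of_coyoneda_map_bijective
  intro Z
  have e : (fun a : yoneda.obj (u.obj Y) ⟶ Z => ψ u Y ≫ a) =
      fun (a : yoneda.obj (u.obj Y) ⟶ Z) => ((Functor.lanAdjunction u.op (Type u)).homEquiv _ _).symm
        (yonedaEquiv.symm (show (u.op ⋙ Z).obj (op Y) from yonedaEquiv (X := u.obj Y) (F := Z) a)) := funext fun a => by
    refine ((Functor.lanAdjunction u.op (Type u)).homEquiv _ _).injective ?_
    rw [Equiv.apply_symm_apply, Adjunction.homEquiv_naturality_right]
    refine yonedaEquiv.injective ?_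
    rw [yonedaEquiv_comp, Equiv.apply_symm_apply]
    unfold ψ
    rw [Equiv.apply_symm_apply]
    change a.app _ (u.map (𝟙 Y)) = _
    rw [u.map_id]
    rfl
  rw [e]
  exact ((yonedaEquiv (F := Z) (X := u.obj Y)).trans ((yonedaEquiv (F := u.op ⋙ Z) (X := Y)).symm.trans
    ((Functor.lanAdjunction u.op (Type u)).homEquiv _ _).symm)).bijective

theorem retract_of (h : ∀ G' : C'ᵒᵖ ⥤ Type u, IsIndObject G' → ∃ F : Cᵒᵖ ⥤ Type u, IsIndObject F ∧
      Nonempty (u.op.lan.obj F ≅ G')) (X' : C') :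
    ∃ (X : C) (i : X' ⟶ u.obj X) (r : u.obj X ⟶ X'), i ≫ r = 𝟙 X' := by
  obtain ⟨F, hF, ⟨e⟩⟩ := h _ (isIndObject_yoneda X')
  let P := hF.presentation
  haveI : PreservesColimitsOfSize.{u, u} (u.op.lan : (Cᵒᵖ ⥤ Type u) ⥤ (C'ᵒᵖ ⥤ Type u)) :=
    (Functor.lanAdjunction u.op (Type u)).leftAdjoint_preservesColimits
  obtain ⟨i, a, ha⟩ := Types.jointly_surjective_of_isColimit
    (isColimitOfPreserves (u.op.lan ⋙ (evaluation C'ᵒᵖ (Type u)).obj (op X')) P.isColimit)
    (e.inv.app (op X') (𝟙 X'))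
  let s : X' ⟶ u.obj (P.F.obj i) := (ψ u (P.F.obj i)).app (op X') a
  let q : yoneda.obj (u.obj (P.F.obj i)) ⟶ yoneda.obj X' :=
    inv (ψ u (P.F.obj i)) ≫ u.op.lan.map (P.ι.app i) ≫ e.hom
  have hs : q.app (op X') s = 𝟙 X' := by
    have h1 : (ψ u (P.F.obj i)).app (op X') ≫ q.app (op X') = (u.op.lan.map (P.ι.app i) ≫ e.hom).app (op X') := by
      rw [← NatTrans.comp_app]
      exact congrArg (fun α => NatTrans.app α (op X')) (IsIso.hom_inv_id_assoc (ψ u (P.F.obj i)) _)
    refine (ConcreteCategory.congr_hom h1 a).trans ?_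
    change e.hom.app _ _ = _
    refine (congrArg _ ha).trans ?_
    exact ConcreteCategory.congr_hom (e.inv_hom_id_app (op X')) (𝟙 X')
  refine ⟨P.F.obj i, s, yonedaEquiv q, ?_⟩
  rw [← hs]
  have := NatTrans.naturality_apply q s.op (𝟙 (u.obj (P.F.obj i)))
  refine this.symm.trans ?_
  exact congrArg _ (Category.comp_id s)

theorem isIso_counit [u.Full] [u.Faithful]
    (hr : ∀ X' : C', ∃ (X : C) (i : X' ⟶ u.obj X) (r : u.obj X ⟶ X'), i ≫ r = 𝟙 X') (X' : C') :
    IsIso ((Functor.lanAdjunction u.op (Type u)).counit.app (yoneda.obj X')) := by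
  obtain ⟨X, i, r, hir⟩ := hr X'
  let adj := Functor.lanAdjunction u.op (Type u)
  haveI : IsIso (adj.unit.app (yoneda.obj X)) := by
    rw [NatTrans.isIso_iff_isIso_app]
    intro Z
    rw [isIso_iff_bijective]
    exact ⟨η_injective_rep u X Z.unop, η_surjective_rep u X Z.unop⟩
  haveI : IsIso (adj.counit.app (u.op.lan.obj (yoneda.obj X))) :=
    IsIso.of_isIso_fac_left (adj.left_triangle_components (yoneda.obj X))
  haveI : IsIso (adj.counit.app (yoneda.obj (u.obj X))) := by
    have h := adj.counit_naturality (ψ u X)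
    exact IsIso.of_isIso_fac_left h
  let W := (Functor.whiskeringLeft Cᵒᵖ C'ᵒᵖ (Type u)).obj u.op ⋙ u.op.lan
  refine ⟨yoneda.map i ≫ inv (adj.counit.app (yoneda.obj (u.obj X))) ≫ W.map (yoneda.map r), ?_, ?_⟩
  · have h := adj.counit.naturality (yoneda.map i)
    simp only [Functor.id_map] at h
    rw [← reassoc_of% h, IsIso.hom_inv_id_assoc]
    exact ((W.map_comp _ _).symm).trans (by rw [← Functor.map_comp, hir, CategoryTheory.Functor.map_id, W.map_id])
  · have h := adj.counit.naturality (yoneda.map r)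
    simp only [Functor.id_map] at h
    simp only [Category.assoc, W]
    erw [h]
    rw [IsIso.inv_hom_id_assoc, ← Functor.map_comp, hir, CategoryTheory.Functor.map_id]
    rfl

theorem essSurj_of [u.Full] [u.Faithful]
    (hr : ∀ X' : C', ∃ (X : C) (i : X' ⟶ u.obj X) (r : u.obj X ⟶ X'), i ≫ r = 𝟙 X')
    (G' : C'ᵒᵖ ⥤ Type u) (hG : IsIndObject G') :
    ∃ F : Cᵒᵖ ⥤ Type u, IsIndObject F ∧ Nonempty (u.op.lan.obj F ≅ G') := by
  let P := hG.presentation
  let R := (Functor.whiskeringLeft Cᵒᵖ C'ᵒᵖ (Type u)).obj u.op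
  haveI : PreservesColimitsOfSize.{u, u} R := (u.op.ranAdjunction (Type u)).leftAdjoint_preservesColimits
  haveI : PreservesColimitsOfSize.{u, u} (u.op.lan : (Cᵒᵖ ⥤ Type u) ⥤ (C'ᵒᵖ ⥤ Type u)) :=
    (Functor.lanAdjunction u.op (Type u)).leftAdjoint_preservesColimits
  haveI := fun X' => isIso_counit u hr X'
  refine ⟨R.obj G', ?_, ⟨?_⟩⟩
  · refine IsIndObject.map (IsColimit.coconePointUniqueUpToIso (colimit.isColimit (P.F ⋙ yoneda ⋙ R))
      (isColimitOfPreserves R P.isColimit)).hom (isIndObject_colimit _ _ fun j => ?_)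
    obtain ⟨X, i, r, hir⟩ := hr (P.F.obj j)
    let e : yoneda.obj X ≅ R.obj (yoneda.obj (u.obj X)) :=
      asIso ((Functor.lanAdjunction u.op (Type u)).unit.app (yoneda.obj X) ≫ R.map (ψ u X))
    haveI : IsIso ((Functor.lanAdjunction u.op (Type u)).unit.app (yoneda.obj X)) := by
      rw [NatTrans.isIso_iff_isIso_app]
      intro Z
      rw [isIso_iff_bijective]
      exact ⟨η_injective_rep u X Z.unop, η_surjective_rep u X Z.unop⟩
    exact isIndObject_of_retract (A := R.obj (yoneda.obj (P.F.obj j))) (R.map (yoneda.map i) ≫ e.inv)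
      (e.hom ≫ R.map (yoneda.map r))
      (by rw [Category.assoc, Iso.inv_hom_id_assoc, ← Functor.map_comp, ← Functor.map_comp, hir,
        CategoryTheory.Functor.map_id, CategoryTheory.Functor.map_id])
  · exact IsColimit.coconePointsIsoOfNatIso (isColimitOfPreserves (R ⋙ u.op.lan) P.isColimit) P.isColimit
      (NatIso.ofComponents (fun j => @asIso _ _ _ _ ((Functor.lanAdjunction u.op (Type u)).counit.app (yoneda.obj (P.F.obj j))) (this _))
        (fun {j k} f => (Functor.lanAdjunction u.op (Type u)).counit.naturality (yoneda.map (P.F.map f))))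

end Groth.Agent.LanInd
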